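import Mathlib.RingTheory.Ideal.KrullsHeightTheorem
import Mathlib.RingTheory.Spectrum.Prime.Topology
import Mathlib.RingTheory.Jacobson.Ideal
import Mathlib.Topology.JacobsonSpace

/-!
The complement of a closed subset inside the radical locus of a Noetherian spectrum is Jacobson.
-/

set_option autoImplicit false

universe u

open Topology

namespace Groth.Agent.PunctJacLib

variable {R : Type u} [CommRing R]

/-- In a Noetherian domain where one non-zero element lies in all non-zero primes, all non-zero primes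
are maximal. -/
theorem isMaximal_of_forall_mem [IsDomain R] [IsNoetherianRing R] {h : R}
    (hh : ∀ P : Ideal R, P.IsPrime → P ≠ ⊥ → h ∈ P) (h0 : h ≠ 0) {P : Ideal R} [P.IsPrime]
    (hP : P ≠ ⊥) : P.IsMaximal := by
  have hmin : ∀ (Q : Ideal R) [Q.IsPrime], Q ≠ ⊥ → Q ∈ (Ideal.span {h}).minimalPrimes := by
    intro P _ hP
    have hfin : (Ideal.span {h}).minimalPrimes.Finite := Ideal.finite_minimalPrimes_of_isNoetherianRing R _
    have hle : Ideal.span {h} ≤ P := (Ideal.span_singleton_le_iff_mem P).2 (hh P inferInstance hP)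
    by_contra hnot
    have hsub : ¬ (P : Set R) ⊆ ⋃ Q ∈ (Ideal.span {h}).minimalPrimes, (Q : Set R) := by
      intro hs
      obtain ⟨Q, hQ, hPQ⟩ :=
        (Ideal.subset_union_prime_finite hfin (f := fun Q => Q) ⊥ ⊥ fun Q hQ _ _ => hQ.1.1).1 hs
      exact hnot (le_antisymm hPQ (hQ.2 ⟨inferInstance, hle⟩ hPQ) ▸ hQ)
    obtain ⟨a, haP, ha⟩ := Set.not_subset.1 hsub
    obtain ⟨Q, hQ, hQP⟩ := Ideal.exists_minimalPrimes_le
      ((Ideal.span_singleton_le_iff_mem P).2 haP)
    haveI := hQ.1.1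
    have hQ0 : Q ≠ ⊥ := by
      intro e
      have : a = 0 := by simpa [e] using hQ.1.2 (Ideal.mem_span_singleton_self a)
      have hR := Ideal.exists_minimalPrimes_le hle
      obtain ⟨Q', hQ', -⟩ := hR
      exact ha (Set.mem_biUnion hQ' (this ▸ Q'.zero_mem))
    obtain ⟨Q', hQ', hQ'Q⟩ := Ideal.exists_minimalPrimes_le
      ((Ideal.span_singleton_le_iff_mem Q).2 (hh Q hQ.1.1 hQ0))
    haveI := hQ'.1.1
    refine ha (Set.mem_biUnion hQ' ?_)
    suffices e : Q' = Q from e ▸ hQ.1.2 (Ideal.mem_span_singleton_self a)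
    by_contra hne
    have h1 : Q.height ≤ 1 :=
      Ideal.height_le_one_of_isPrincipal_of_mem_minimalPrimes _ Q hQ
    have hbot : (⊥ : Ideal R) < Q' := bot_lt_iff_ne_bot.2 fun e => h0 (by
      simpa [e] using hQ'.1.2 (Ideal.mem_span_singleton_self h))
    haveI := Ideal.isPrime_bot (α := R)
    have h2 := Ideal.height_strict_mono_of_isPrime_of_isPrime hbot
    have h3 := Ideal.height_strict_mono_of_isPrime_of_isPrime (lt_of_le_of_ne hQ'Q hne)
    have h4 : Q'.height < 1 := h3.trans_le h1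
    exact absurd ((ENat.lt_one_iff_eq_zero.1 h4) ▸ h2) not_lt_zero
  obtain ⟨M, hM, hPM⟩ := Ideal.exists_le_maximal P (Ideal.IsPrime.ne_top inferInstance)
  haveI := hM.isPrime
  have hM0 : M ≠ ⊥ := fun e => hP (le_bot_iff.1 (e ▸ hPM))
  have hMP : M ≤ P := (hmin M hM0).2 (hmin P hP).1 hPM
  exact le_antisymm hPM hMP ▸ hM

/-- If `q` is maximal among the primes avoiding `h`, the primes strictly above it are maximal. -/
theorem isMaximal_of_lt [IsNoetherianRing R] {q : Ideal R} [q.IsPrime] {h : R} (hq : h ∉ q)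
    (hmax : ∀ P : Ideal R, P.IsPrime → q < P → h ∈ P) {P : Ideal R} [P.IsPrime] (hP : q < P) :
    P.IsMaximal := by
  let π := Ideal.Quotient.mk q
  haveI : (P.map π).IsPrime :=
    Ideal.map_isPrime_of_surjective Ideal.Quotient.mk_surjective (by rw [Ideal.mk_ker]; exact hP.le)
  have hcm : (P.map π).comap π = P := by
    rw [Ideal.comap_map_of_surjective _ Ideal.Quotient.mk_surjective]
    simpa [π, ← RingHom.ker_eq_comap_bot] using hP.le
  have hm : (P.map π).IsMaximal := by
    refine isMaximal_of_forall_mem (h := π h) (fun Q hQ hQ0 => ?_)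
      (fun e => hq (Ideal.Quotient.eq_zero_iff_mem.1 e)) fun e => hP.ne ?_
    · refine hmax (Q.comap π) inferInstance (lt_of_le_of_ne ?_ fun e => hQ0 ?_)
      · intro x hx
        rw [Ideal.mem_comap, Ideal.Quotient.eq_zero_iff_mem.2 hx]
        exact Q.zero_mem
      · rw [← Ideal.map_comap_of_surjective π Ideal.Quotient.mk_surjective Q, ← e]
        exact Ideal.map_quotient_self q
    · rw [← hcm, e, ← RingHom.ker_eq_comap_bot, Ideal.mk_ker]
  exact hcm ▸ Ideal.comap_isMaximal_of_surjective π Ideal.Quotient.mk_surjective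

theorem jacobsonSpace_compl_zeroLocus [IsNoetherianRing R] (I : Ideal R)
    (hI : I ≤ (⊥ : Ideal R).jacobson) :
    JacobsonSpace ↥((PrimeSpectrum.zeroLocus (I : Set R))ᶜ) := by
  rw [jacobsonSpace_iff_locallyClosed]
  rintro Z ⟨⟨x, hxI⟩, hxZ⟩ ⟨U, C, hU, hC, rfl⟩
  obtain ⟨U', hU', rfl⟩ := isOpen_induced_iff.1 hU
  obtain ⟨C', hC', rfl⟩ := isClosed_induced_iff.1 hC
  obtain ⟨_, ⟨f, rfl⟩, hxf, hfU⟩ :=
    (PrimeSpectrum.isTopologicalBasis_basic_opens (R := R)).exists_subset_of_mem_open hxZ.1 hU'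
  obtain ⟨i, hiI, hix⟩ := Set.not_subset.1 (fun h => hxI ((PrimeSpectrum.mem_zeroLocus _ _).2 h))
  have hhx : f * i ∉ x.asIdeal := fun h => (x.isPrime.mem_or_mem h).elim hxf hix
  obtain ⟨q, ⟨hq, hxq, hhq⟩, hmax⟩ := set_has_maximal_iff_noetherian.2 ‹IsNoetherianRing R›
    {q : Ideal R | q.IsPrime ∧ x.asIdeal ≤ q ∧ f * i ∉ q} ⟨_, x.isPrime, le_rfl, hhx⟩
  have hiq : i ∉ q := fun h => hhq (Ideal.mul_mem_left _ _ h)
  let z : ↥((PrimeSpectrum.zeroLocus (I : Set R))ᶜ) :=
    ⟨⟨q, hq⟩, fun h => hiq ((PrimeSpectrum.mem_zeroLocus _ _).1 h hiI)⟩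
  refine ⟨z, ⟨hfU (show f ∉ q from fun h => hhq (Ideal.mul_mem_right _ _ h)), ?_⟩, ?_⟩
  · exact ((PrimeSpectrum.le_iff_specializes x ⟨q, hq⟩).1 hxq).mem_closed hC' hxZ.2
  · rw [mem_closedPoints_iff, isClosed_induced_iff]
    refine ⟨closure {z.1}, isClosed_closure, ?_⟩
    ext ⟨y, hy⟩
    simp only [Set.mem_preimage, Set.mem_singleton_iff]
    constructor
    · intro h
      rw [← specializes_iff_mem_closure, ← PrimeSpectrum.le_iff_specializes] at h
      rcases (show q ≤ y.asIdeal from h).lt_or_eq with hlt | heq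
      · refine absurd ((PrimeSpectrum.mem_zeroLocus _ _).2 ?_) hy
        have hhy : ∀ P : Ideal R, P.IsPrime → q < P → f * i ∈ P := fun P hP hqP => by
          by_contra hn
          exact hmax P ⟨hP, hxq.trans hqP.le, hn⟩ hqP
        haveI := hq
        have := isMaximal_of_lt hhq hhy hlt
        exact fun a ha => Ideal.mem_sInf.1 (hI ha) ⟨bot_le, this⟩
      · exact Subtype.ext (PrimeSpectrum.ext heq.symm)
    · intro h
      rw [show y = z.1 from congrArg Subtype.val h]
      exact subset_closure rfl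

end Groth.Agent.PunctJacLib
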